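import Groth.Agent.S4094
import Groth.Agent.S3036
import Groth.Agent.Lib.AlgGrpBasic19.Basic
import Groth.Agent.Lib.FlatDesc26.Basic

/-!
# Homomorphisms over a field with affine kernel are affine
-/

universe u

open CategoryTheory Limits MonoidalCategory CartesianMonoidalCategory MonObj GrpObj AlgebraicGeometry

set_option autoImplicit false
set_option linter.style.haveILetI false
set_option backward.isDefEq.respectTransparency.types false

namespace Groth.Agent.GrpAffKer19

variable {S : Scheme.{u}}

/-- A homomorphism is a torsor under its kernel over itself. -/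
theorem isPullback_shear {G H Q : Over S} [GrpObj G] [GrpObj Q] (h : H ⟶ G) [Mono h]
    (q : G ⟶ Q) [IsMonHom q] (hk : AlgGrp.IsKernel h q) :
    IsPullback ((G ◁ h) ≫ μ[G]) (fst G H) q q := by
  have hval : ∀ {T : Over S} (g : T ⟶ G) (x : T ⟶ H),
      lift g x ≫ (G ◁ h) ≫ μ[G] = g * (x ≫ h) := fun {T} g x => by
    rw [lift_whiskerLeft_assoc, Hom.mul_def]
  have hone : ∀ {T : Over S} (x : T ⟶ H), (x ≫ h) ≫ q = 1 := fun {T} x => by
    rw [Category.assoc, hk.w, ← Category.assoc, comp_toUnit, Hom.one_def]
  have hid : ∀ {T : Over S} (p : T ⟶ G ⊗ H), p = lift (p ≫ fst G H) (p ≫ snd G H) :=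
    fun p => by rw [← comp_lift, lift_fst_snd, Category.comp_id]
  refine ⟨⟨?_⟩, ⟨PullbackCone.IsLimit.mk _
    (fun s => lift s.snd (hk.lift (s.snd⁻¹ * s.fst) (toUnit _) (by
      rw [MonObj.mul_comp, GrpObj.inv_comp, s.condition, inv_mul_cancel, Hom.one_def])))
    (fun s => by rw [hval, hk.lift_fst, mul_inv_cancel_left])
    (fun s => lift_fst _ _) (fun s m h1 h2 => ?_)⟩⟩
  · have e := hid (𝟙 (G ⊗ H))
    rw [Category.id_comp, Category.id_comp] at e
    conv_lhs => rw [← Category.id_comp ((G ◁ h) ≫ μ[G]), e, hval, MonObj.mul_comp, hone, _root_.mul_one]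
  · rw [hid m, h2]
    congr 1
    rw [← cancel_mono h, hk.lift_fst, eq_inv_mul_iff_mul_eq, ← h2, ← hval, ← hid]
    exact h1

variable {k : Type u} [Field k]

theorem isAffineHom_of_isAffine_kernel {G H : Over (Spec (CommRingCat.of k))} [GrpObj G] [GrpObj H]
    [LocallyOfFiniteType G.hom] [LocallyOfFiniteType H.hom] (u : G ⟶ H) [IsMonHom u] [QuasiCompact u.left]
    (hK : IsAffine (pullback u η[H]).left) : IsAffineHom u.left := by
  haveI : LocallyOfFinitePresentation G.hom := inferInstance
  haveI : IsLocallyNoetherian (Spec (CommRingCat.of k)) := inferInstance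
  obtain ⟨Q, _, p, i, hp, hi, e, hs, hf, hl, hm, hQ, hker⟩ :=
    S4094.result (Spec (CommRingCat.of k)) G H u inferInstance
  haveI := hm
  haveI : Mono i.left := Over.mono_left_of_mono i
  haveI : LocallyOfFiniteType Q.hom := inferInstance
  haveI hqi : QuasiCompact i.left := ⟨fun V hV hVc => by
    have h := (QuasiCompact.isCompact_preimage (f := u.left) V hV hVc).image p.left.continuous
    convert h using 1
    rw [← e, Over.comp_left, Scheme.Hom.comp_base, TopCat.coe_comp, Set.preimage_comp,
      Set.image_preimage_eq _ p.left.surjective]⟩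
  haveI := S3036.result k Q H i
  haveI : QuasiCompact p.left := by
    haveI : QuasiCompact (p.left ≫ i.left) := by rw [← Over.comp_left, e]; infer_instance
    exact QuasiCompact.of_comp p.left i.left
  haveI : QuasiSeparated p.left := by
    haveI : QuasiSeparated G.hom := AlgGrpBasic19.quasiSeparatedSpace
    haveI : QuasiSeparated (p.left ≫ Q.hom) := by rw [Over.w p]; infer_instance
    exact QuasiSeparated.of_comp p.left Q.hom
  haveI : IsAffineHom (pullback u η[H]).hom := inferInstance
  haveI : Mono (η[H]) := SplitMono.mono ⟨toUnit H, toUnit_unique _ _⟩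
  haveI : Mono (pullback.fst u η[H]) := inferInstance
  have hsq : IsPullback ((G ◁ pullback.fst u η[H]) ≫ μ[G]).left (fst G (pullback u η[H])).left p.left p.left :=
    (Over.forget (Spec (CommRingCat.of k))).map_isPullback (isPullback_shear (pullback.fst u η[H]) p hker)
  haveI : IsAffineHom (fst G (pullback u η[H])).left :=
    (MorphismProperty.pullback_fst (P := @IsAffineHom) G.hom (pullback u η[H]).hom inferInstance :
      IsAffineHom (Limits.pullback.fst G.hom (pullback u η[H]).hom))
  haveI : IsAffineHom (Limits.pullback.snd p.left p.left) := by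
    rw [← hsq.isoPullback_inv_snd]
    infer_instance
  haveI : IsAffineHom p.left := FlatDesc26.isAffineHom_of_flat_cover p.left p.left
  rw [← e, Over.comp_left]
  infer_instance

end Groth.Agent.GrpAffKer19
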